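import Mathlib
import Groth.Agent.CoactOrbit.Free

/-! The same over the ring of invariants (no condition on the invariants). -/

set_option autoImplicit false

universe u

noncomputable section

open CategoryTheory CategoryTheory.Limits MonoidalCategory CartesianMonoidalCategory MonObj AlgebraicGeometry Opposite
open scoped TensorProduct

namespace Groth.Agent.CoactOrbit

variable {R A B : Type u} [CommRing R] [CommRing A] [HopfAlgebra R A] [CommRing B] [Algebra R B]
  [HopfRep.Comod R A B] [GLin.IsCoactAlg R A B]

theorem exists_dualBasis [Module.Finite R A] [Module.Projective R A] :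
    ∃ (n : ℕ) (a : Fin n → A) (f : Fin n → A →ₗ[R] R), ∀ h : A, ∑ i, f i h • a i = h := by
  obtain ⟨n, π, s, -, -, hπs⟩ := Module.Finite.exists_comp_eq_id_of_projective R A
  refine ⟨n, fun i => π (Pi.single i 1), fun i => (LinearMap.proj i).comp s, fun h => ?_⟩
  conv_rhs => rw [← LinearMap.id_apply (R := R) h, ← hπs, LinearMap.comp_apply, pi_eq_sum_univ' (s h)]
  simp only [map_sum, map_smul, LinearMap.comp_apply, LinearMap.proj_apply]

theorem isIntegral_invariants_projective [Module.Finite R A] [Module.Projective R A] :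
    Algebra.IsIntegral (GLin.invariants R A B) B := by
  classical
  obtain ⟨n, a, f, hs⟩ := exists_dualBasis (R := R) (A := A)
  refine ⟨fun b => ?_⟩
  let t := GLin.coactAlgHom R A B b
  let N : Matrix (Fin n) (Fin n) B := mulM a f t
  let incl : B →ₐ[R] B ⊗[R] A := Algebra.TensorProduct.includeLeft
  have hinv : ∀ m, N.charpoly.coeff m ∈ GLin.invariants R A B := fun m => by
    have h : N.charpoly.map (GLin.coactAlgHom R A B : B →+* B ⊗[R] A) = N.charpoly.map (incl : B →+* B ⊗[R] A) := by
      rw [← Matrix.charpoly_map, ← Matrix.charpoly_map]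
      show ((mulM a f t).map (GLin.coactAlgHom R A B)).charpoly = ((mulM a f t).map incl).charpoly
      rw [← mulM_map, ← mulM_map, Groth.Agent.InvFin.map_coact_coact]
      generalize Algebra.TensorProduct.map incl (AlgHom.id R A) t = y
      let e := Groth.Agent.InvFin.slotOver R A B
      let P := mat a f e.toLinearMap + matE a f
      let P' := mat a f e.symm.toLinearMap + matE a f
      have h1 : P * P' = 1 := by
        rw [ext_mul_ext a f hs, show e.toLinearMap ∘ₗ e.symm.toLinearMap = LinearMap.id from
          LinearMap.ext fun x => e.apply_symm_apply x, ext_id]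
      have h2 : mulM a f (e y) * P = P * mulM a f y := by
        simp only [P, mulM, mul_add, add_mul, mat_mul_mat a f hs, matE_mul_mat a f hs, mat_mul_matE a f hs]
        congr 2
        exact LinearMap.ext fun z => (map_mul e y z).symm
      rw [show Groth.Agent.InvFin.slotOver R A B y = e y from rfl,
        show mulM a f (e y) = P * mulM a f y * P' from by rw [← h2, _root_.mul_assoc, h1, _root_.mul_one],
        Matrix.charpoly_mul_comm, ← _root_.mul_assoc, mul_eq_one_comm.1 h1, _root_.one_mul]
    have h' := congrArg (fun p => Polynomial.coeff p m) h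
    simp only [Polynomial.coeff_map] at h'
    exact (GLin.mem_invariants_iff R A B _).2 h'
  obtain ⟨p, hp, -, hm⟩ := Polynomial.lifts_and_natDegree_eq_and_monic
    (f := (GLin.invariants R A B).val.toRingHom) (p := N.charpoly)
    ((Polynomial.lifts_iff_coeff_lifts _).2 fun i => ⟨⟨_, hinv i⟩, rfl⟩) (Matrix.charpoly_monic _)
  refine ⟨p, hm, ?_⟩
  change Polynomial.eval₂ (GLin.invariants R A B).val.toRingHom b p = 0
  rw [← Polynomial.eval_map, hp]
  -- Cayley-Hamilton in coordinates
  have hvec : ∀ (k : ℕ) (z : B ⊗[R] A),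
      (N ^ k).mulVec (fun j => coord f j z) = fun i => coord f i (t ^ k * z) := by
    intro k
    induction k with
    | zero => intro z; simp
    | succ k ih =>
      intro z
      rw [pow_succ, ← Matrix.mulVec_mulVec]
      have h1 : N.mulVec (fun j => coord f j z) = fun i => coord f i (t * z) := by
        ext i
        simp only [Matrix.mulVec, dotProduct, N, mulM, mat, Matrix.of_apply, LinearMap.mulLeft_apply]
        conv_rhs => rw [← sum_coord a f hs z, Finset.mul_sum]
        simp only [mul_smul_comm, map_sum, map_smul, smul_eq_mul]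
        exact Finset.sum_congr rfl fun j _ => mul_comm _ _
      rw [h1, ih, pow_succ, _root_.mul_assoc]
  have hz : ∀ i, coord f i (Polynomial.aeval t N.charpoly) = 0 := by
    intro i
    have h0 := congrArg (fun M => (M.mulVec fun j => coord f j (1 : B ⊗[R] A)) i) (Matrix.aeval_self_charpoly N)
    simp only [Polynomial.aeval_eq_sum_range, Matrix.sum_mulVec, Matrix.smul_mulVec, hvec, Finset.sum_apply,
      Pi.smul_apply, _root_.mul_one, Matrix.zero_mulVec, Pi.zero_apply] at h0
    rw [Polynomial.aeval_eq_sum_range, map_sum]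
    simpa only [map_smul] using h0
  have h3 : Polynomial.aeval t N.charpoly = 0 := by
    rw [← sum_coord a f hs (Polynomial.aeval t N.charpoly)]
    exact Finset.sum_eq_zero fun i _ => by rw [hz, zero_smul]
  have h4 := congrArg (aug R A B) h3
  rw [← Polynomial.aeval_algHom_apply, aug_coact, map_zero] at h4
  exact h4

theorem exists_translate_eq' [Module.Finite R A] [Module.Projective R A] {K : Type u} [Field K] [IsAlgClosed K]
    [Algebra R K] (x₁ x₂ : B →ₐ[R] K) (hagree : ∀ c ∈ GLin.invariants R A B, x₁ c = x₂ c) :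
    ∃ g : A →ₐ[R] K, translate x₁ g = x₂ :=
  exists_translate_eq_of_agree x₁ x₂ hagree

theorem trivial_of_same_image [Module.Finite R A] [Module.Projective R A]
    {K₁ K₂ : Type u} [Field K₁] [Algebra R K₁] [Field K₂] [Algebra R K₂]
    (x₁ : B →ₐ[R] K₁) (x₂ : B →ₐ[R] K₂)
    (hq : RingHom.ker (x₁.comp (GLin.invariants R A B).val).toRingHom =
      RingHom.ker (x₂.comp (GLin.invariants R A B).val).toRingHom)
    (h₁ : ∀ (T : Over (Spec (CommRingCat.of R))) (h : T ⟶ CoactBr.sp R K₁) (g : T ⟶ CoactBr.sp R A),
      lift g (h ≫ CoactBr.pt x₁) ≫ (CoactBr.action R A B).act = h ≫ CoactBr.pt x₁ → g = 1)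
    (T : Over (Spec (CommRingCat.of R))) (h : T ⟶ CoactBr.sp R K₂) (g : T ⟶ CoactBr.sp R A)
    (hg : lift g (h ≫ CoactBr.pt x₂) ≫ (CoactBr.action R A B).act = h ≫ CoactBr.pt x₂) :
    g = 1 := by
  letI : Algebra (GLin.invariants R A B) K₁ := (x₁.comp (GLin.invariants R A B).val).toRingHom.toAlgebra
  letI : Algebra (GLin.invariants R A B) K₂ := (x₂.comp (GLin.invariants R A B).val).toRingHom.toAlgebra
  haveI : IsScalarTower R (GLin.invariants R A B) K₁ :=
    IsScalarTower.of_algebraMap_eq fun r => ((x₁.comp (GLin.invariants R A B).val).commutes r).symm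
  haveI : IsScalarTower R (GLin.invariants R A B) K₂ :=
    IsScalarTower.of_algebraMap_eq fun r => ((x₂.comp (GLin.invariants R A B).val).commutes r).symm
  obtain ⟨Ω, _, _, aC, ⟨j₁⟩, ⟨j₂⟩⟩ := exists_common_field (R := GLin.invariants R A B) K₁ K₂ hq
  letI : Algebra R Ω := ((algebraMap (GLin.invariants R A B) Ω).comp (algebraMap R _)).toAlgebra
  haveI : IsScalarTower R (GLin.invariants R A B) Ω := IsScalarTower.of_algebraMap_eq fun _ => rfl
  refine trivial_core (j₁.restrictScalars R) (j₂.restrictScalars R) x₁ x₂ (fun c hc => ?_) h₁ T h g hg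
  exact (j₂.commutes (⟨c, hc⟩ : GLin.invariants R A B)).trans (j₁.commutes ⟨c, hc⟩).symm

end Groth.Agent.CoactOrbit
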