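import Mathlib
import Groth.Agent.CoactOrbit.Invariants

/-! The free locus is open over the invariants and contains the fibres with trivial inertia. -/

set_option autoImplicit false

universe u

noncomputable section

open CategoryTheory CategoryTheory.Limits MonoidalCategory CartesianMonoidalCategory MonObj AlgebraicGeometry Opposite
open scoped TensorProduct

namespace Groth.Agent.CoactOrbit

variable {R A B : Type u} [CommRing R] [CommRing A] [HopfAlgebra R A] [CommRing B] [Algebra R B]
  [HopfRep.Comod R A B] [GLin.IsCoactAlg R A B]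

theorem exists_lift_residueField {Q : Type u} [CommRing Q] [Algebra R Q] (P : Ideal B) [P.IsPrime]
    (xb : B →ₐ[R] Q) (h0 : ∀ b ∈ P, xb b = 0) (hu : ∀ b ∉ P, IsUnit (xb b)) :
    ∃ hk : P.ResidueField →ₐ[R] Q, hk.comp (IsScalarTower.toAlgHom R B P.ResidueField) = xb := by
  let xq : B ⧸ P →ₐ[R] Q := Ideal.Quotient.liftₐ P xb h0
  have hunit : ∀ y : nonZeroDivisors (B ⧸ P), IsUnit (xq.toRingHom y) := by
    rintro ⟨y, hy⟩
    obtain ⟨b, rfl⟩ := Ideal.Quotient.mk_surjective y
    exact hu b fun h => nonZeroDivisors.ne_zero hy (Ideal.Quotient.eq_zero_iff_mem.2 h)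
  let hkr : P.ResidueField →+* Q :=
    IsLocalization.lift (M := nonZeroDivisors (B ⧸ P)) (g := xq.toRingHom) hunit
  refine ⟨⟨hkr, fun r => ?_⟩, AlgHom.ext fun b => ?_⟩
  · show hkr (algebraMap R P.ResidueField r) = _
    rw [IsScalarTower.algebraMap_apply R (B ⧸ P) P.ResidueField]
    exact (IsLocalization.lift_eq (M := nonZeroDivisors (B ⧸ P)) hunit _).trans (xq.commutes r)
  · show hkr (algebraMap B P.ResidueField b) = xb b
    rw [← Ideal.algebraMap_quotient_residueField_mk (I := P) b]
    exact IsLocalization.lift_eq _ _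

theorem exists_invert {D : Type u} [CommRing D] [Algebra R D] [Algebra B D] (P : Ideal B) [P.IsPrime] :
    ∃ (Q : Type u) (_ : CommRing Q) (_ : Algebra R Q) (π : D →ₐ[R] Q),
      (∀ b ∉ P, IsUnit (π (algebraMap B D b))) ∧ ∀ y, π y = 0 → ∃ s ∉ P, algebraMap B D s * y = 0 := by
  let N := Algebra.algebraMapSubmonoid D P.primeCompl
  refine ⟨Localization N, inferInstance, inferInstance, IsScalarTower.toAlgHom R D (Localization N),
    fun b hb => IsLocalization.map_units (Localization N) (⟨algebraMap B D b, ⟨b, hb, rfl⟩⟩ : N), fun y hy => ?_⟩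
  obtain ⟨⟨_, s, hs, rfl⟩, hs0⟩ := (IsLocalization.map_eq_zero_iff N (Localization N) y).1 hy
  exact ⟨s, hs, hs0⟩

/-- At a prime with trivial inertia, the stabiliser is trivial up to an element outside the prime. -/
theorem exists_smul_ker_aug_le [Module.Finite R A] (P : Ideal B) [P.IsPrime]
    (htriv : ∀ (T : Over (Spec (CommRingCat.of R))) (h : T ⟶ CoactBr.sp R P.ResidueField)
      (g : T ⟶ CoactBr.sp R A),
      lift g (h ≫ CoactBr.pt (IsScalarTower.toAlgHom R B P.ResidueField)) ≫ (CoactBr.action R A B).act =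
        h ≫ CoactBr.pt (IsScalarTower.toAlgHom R B P.ResidueField) → g = 1) :
    ∃ r ∉ P, ∀ z, aug R A B z = 0 → r • z ∈ stabId R A B := by
  classical
  let J := stabId R A B
  let Pr : B ⊗[R] A →ₗ[B] B ⊗[R] A :=
    LinearMap.id - (Algebra.linearMap B (B ⊗[R] A)).comp (aug R A B).toLinearMap
  have hP : ∀ z, aug R A B z = 0 → Pr z = z := fun z hz => by
    show z - algebraMap B (B ⊗[R] A) (aug R A B z) = z
    rw [hz, map_zero, sub_zero]
  have haug : ∀ z, aug R A B (Pr z) = 0 := fun z => by
    show aug R A B (z - algebraMap B (B ⊗[R] A) (aug R A B z)) = 0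
    rw [map_sub, AlgHom.commutes]
    exact sub_self _
  let q : B ⊗[R] A →ₗ[B] (B ⊗[R] A) ⧸ J := (Ideal.Quotient.mkₐ B J).toLinearMap
  let M : Submodule B ((B ⊗[R] A) ⧸ J) := LinearMap.range (q.comp Pr)
  have hfg : M.FG := by
    show (LinearMap.range (q.comp Pr)).FG
    rw [LinearMap.range_eq_map]
    exact Module.Finite.fg_top.map _
  have hpt : ∀ z, ∃ s ∉ P, s • q (Pr z) ∈ P • M := by
    intro z
    let Jm : Ideal (B ⊗[R] A) := J ⊔ P.map (algebraMap B (B ⊗[R] A))
    obtain ⟨Q, _, _, π₀, hu₀, hker₀⟩ := exists_invert (R := R) (D := (B ⊗[R] A) ⧸ Jm) P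
    let π : B ⊗[R] A →ₐ[R] Q := π₀.comp (Ideal.Quotient.mkₐ R Jm)
    let xb : B →ₐ[R] Q := π.comp Algebra.TensorProduct.includeLeft
    let ga : A →ₐ[R] Q := π.comp Algebra.TensorProduct.includeRight
    have hlift : Algebra.TensorProduct.lift xb ga (fun a b => mul_comm (xb a) (ga b)) = π := by
      apply Algebra.TensorProduct.ext'
      intro b a
      simp [xb, ga, ← map_mul]
    have hzero : ∀ y ∈ Jm, π y = 0 := fun y hy => by
      show π₀ (Ideal.Quotient.mk Jm y) = 0
      rw [Ideal.Quotient.eq_zero_iff_mem.2 hy, map_zero]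
    have hxu : ∀ b ∉ P, IsUnit (xb b) := fun b hb => hu₀ b hb
    have hx0 : ∀ b ∈ P, xb b = 0 := fun b hb =>
      hzero _ (Submodule.mem_sup_right (Ideal.mem_map_of_mem _ hb))
    obtain ⟨hk, hxb⟩ := exists_lift_residueField P xb hx0 hxu
    have hfix : translate xb ga = xb := AlgHom.ext fun b => by
      rw [translate, AlgHom.comp_apply, hlift]
      show π (GLin.coactAlgHom R A B b) = π (b ⊗ₜ[R] (1 : A))
      rw [← sub_eq_zero, ← map_sub]
      exact hzero _ (Submodule.mem_sup_left (Ideal.subset_span ⟨b, rfl⟩))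
    have hg := htriv _ (CoactBr.pt hk) (CoactBr.pt ga)⁻¹ (by
      rw [← CoactBr.pt_comp, hxb, CoactBr.lift_action_act, inv_inv, CoactBr.lift_pt_ract]
      exact congrArg CoactBr.pt hfix)
    rw [inv_eq_one, CoactBr.one_eq_pt] at hg
    have hga := CoactBr.pt_injective hg
    have hπ : ∀ y, π y = xb (aug R A B y) := fun y => by
      induction y using TensorProduct.induction_on with
      | zero => simp
      | tmul b a =>
        rw [← hlift, Algebra.TensorProduct.lift_tmul, hga]
        simp [aug, Algebra.smul_def]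
      | add y y' hy hy' => simp only [map_add, hy, hy']
    have h0 : π (Pr z) = 0 := by rw [hπ, haug, map_zero]
    obtain ⟨s, hs, hs0⟩ := hker₀ _ h0
    refine ⟨s, hs, ?_⟩
    have hmem : s • Pr z ∈ Jm := Ideal.Quotient.eq_zero_iff_mem.1 (by
      rw [Algebra.smul_def, map_mul]
      exact hs0)
    obtain ⟨j, hj, w, hw, hjw⟩ := Submodule.mem_sup.1 hmem
    have e : s • q (Pr z) = q (Pr w) := by
      have hPj : Pr j = j := hP j (RingHom.mem_ker.1 (stabId_le_aug hj))
      have hqj : q j = 0 := Ideal.Quotient.eq_zero_iff_mem.2 hj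
      have hPP := congrArg q (congrArg Pr hjw)
      rw [map_add, map_add, hPj, hqj, zero_add, map_smul, hP _ (haug z), map_smul] at hPP
      exact hPP.symm
    rw [e]
    have hw' : w ∈ P • (⊤ : Submodule B (B ⊗[R] A)) := by
      rw [Ideal.smul_top_eq_map]
      exact hw
    have := Submodule.mem_map_of_mem (f := q.comp Pr) hw'
    rw [Submodule.map_smul'', Submodule.map_top] at this
    exact this
  haveI : Module.Finite B M := Module.Finite.iff_fg.2 hfg
  obtain ⟨n, gen, hgen⟩ := Module.Finite.exists_fin (R := B) (M := M)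
  have hgen' : ∀ i, ∃ s ∉ P, s • ((gen i : M) : (B ⊗[R] A) ⧸ J) ∈ P • M := fun i => by
    obtain ⟨z, hz⟩ := (gen i).2
    rw [← hz]
    exact hpt z
  choose s hs hs' using hgen'
  let S : B := ∏ i, s i
  have hS : S ∉ P := fun h => by
    obtain ⟨i, -, hi⟩ := (Ideal.IsPrime.prod_mem_iff (p := P)).1 h
    exact hs i hi
  have hrange : LinearMap.range (algebraMap B (Module.End B M) S) ≤ P • ⊤ := by
    rintro _ ⟨m, rfl⟩
    rw [Module.algebraMap_end_apply]
    have hm : m ∈ Submodule.span B (Set.range gen) := hgen ▸ Submodule.mem_top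
    induction hm using Submodule.span_induction with
    | mem y hy =>
      obtain ⟨i, rfl⟩ := hy
      obtain ⟨t, ht⟩ := Finset.dvd_prod_of_mem s (Finset.mem_univ i)
      rw [show S = t * s i from ht.trans (mul_comm _ _), mul_smul]
      refine Submodule.smul_mem _ _ ?_
      refine (Submodule.mem_smul_top_iff P M _).2 ?_
      exact hs' i
    | zero => simp
    | add y y' _ _ hy hy' => rw [smul_add]; exact add_mem hy hy'
    | smul a y _ hy => rw [smul_comm]; exact Submodule.smul_mem _ _ hy
  obtain ⟨p, hpm, -, hpc, hp0⟩ :=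
    LinearMap.exists_monic_and_natDegree_eq_and_coeff_mem_pow_and_aeval_eq_zero B _ P hrange
  rw [Polynomial.aeval_algebraMap_apply] at hp0
  refine ⟨Polynomial.aeval S p, fun hmem => hS ?_, fun z hz => ?_⟩
  · refine Ideal.IsPrime.mem_of_pow_mem inferInstance p.natDegree ?_
    rw [Polynomial.aeval_eq_sum_range, Finset.sum_range_succ, hpm.coeff_natDegree, one_smul] at hmem
    refine (P.add_mem_iff_right (P.sum_mem fun i hi => ?_)).1 hmem
    refine P.mul_mem_right _ ((Ideal.pow_le_self ?_) (hpc i))
    exact Nat.sub_ne_zero_of_lt (Finset.mem_range.1 hi)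
  · have := congrArg Subtype.val (LinearMap.congr_fun hp0 ⟨q (Pr z), z, rfl⟩)
    rw [Module.algebraMap_end_apply, SetLike.val_smul, LinearMap.zero_apply, ZeroMemClass.coe_zero] at this
    change _ • q (Pr z) = 0 at this
    rw [hP z hz, ← map_smul] at this
    exact Ideal.Quotient.eq_zero_iff_mem.1 this

theorem free_of_smul_ker_aug_le (c : B) (hle : ∀ z, aug R A B z = 0 → c • z ∈ stabId R A B)
    (T : Over (Spec (CommRingCat.of R))) (ζ : T ⟶ CoactBr.sp R B)
    (hc : ∀ t : T.left, ∀ P : PrimeSpectrum B, P = (ζ.left.base t : PrimeSpectrum B) → c ∉ P.asIdeal)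
    (g : T ⟶ CoactBr.sp R A) (hg : lift g ζ ≫ (CoactBr.action R A B).act = ζ) : g = 1 := by
  refine Over.OverMorphism.ext (T.left.affineCover.hom_ext _ _ fun i => ?_)
  let C : CommRingCat.{u} := Γ(T.left.affineCover.X i, ⊤)
  let u₀ : Spec C ⟶ T.left := (T.left.affineCover.X i).isoSpec.inv ≫ T.left.affineCover.f i
  letI : Algebra R C := (Spec.preimage (u₀ ≫ T.hom)).hom.toAlgebra
  let π : CoactBr.sp R C ⟶ T := Over.homMk u₀ (Spec.map_preimage (u₀ ≫ T.hom)).symm
  obtain ⟨y, hy⟩ := exists_pt (π ≫ g⁻¹)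
  obtain ⟨x, hx⟩ := exists_pt (π ≫ ζ)
  have hxc : IsUnit (x c) := by
    by_contra hu
    obtain ⟨m, hm, hcm⟩ := exists_max_ideal_of_mem_nonunits hu
    haveI := hm.isPrime
    refine hc ((CommaMorphism.left π).base (⟨m, inferInstance⟩ : PrimeSpectrum C))
      ⟨m.comap x.toRingHom, inferInstance⟩ ?_ hcm
    have e := congrArg CommaMorphism.left hx
    exact congrArg (fun φ => φ.base (⟨m, inferInstance⟩ : PrimeSpectrum C)) e
  have hfix : CoactBr.pt (translate x y) = CoactBr.pt x := by
    show CoactBr.pt ((Algebra.TensorProduct.lift x y _).comp (GLin.coactAlgHom R A B)) = _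
    rw [← CoactBr.lift_pt_ract, hy, hx, ← comp_lift_assoc, ← CoactBr.lift_action_act, hg]
  have hfix' := CoactBr.pt_injective hfix
  let L : B ⊗[R] A →ₐ[R] C := Algebra.TensorProduct.lift x y fun _ _ => Commute.all _ _
  have hJ : stabId R A B ≤ RingHom.ker L.toRingHom := by
    refine Ideal.span_le.2 ?_
    rintro _ ⟨b, rfl⟩
    show L (GLin.coactAlgHom R A B b - b ⊗ₜ[R] (1 : A)) = 0
    rw [map_sub, sub_eq_zero, show L (GLin.coactAlgHom R A B b) = x b from AlgHom.congr_fun hfix' b]
    simp [L]
  have hy1 : CoactBr.pt y = 1 := by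
    rw [CoactBr.one_eq_pt]
    congr 1
    ext a
    let z := (1 : B) ⊗ₜ[R] a - algebraMap R (B ⊗[R] A) (Bialgebra.counitAlgHom R A a)
    have hz : aug R A B z = 0 := by
      rw [map_sub, IsScalarTower.algebraMap_apply R B (B ⊗[R] A), AlgHom.commutes]
      simp [aug]
    have h0 : L (c • z) = 0 := hJ (hle z hz)
    have h1 : L (c • z) = x c * L z := by
      rw [Algebra.smul_def, map_mul]
      simp [L]
    have h2 : L z = 0 := (hxc.mul_right_eq_zero).1 (h1.symm.trans h0)
    rw [map_sub, AlgHom.commutes, sub_eq_zero] at h2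
    simp [L] at h2
    simpa using h2
  have h' : π ≫ g = π ≫ 1 := by
    have e : π ≫ g⁻¹ = 1 := hy.symm.trans hy1
    rw [MonObj.comp_one]
    rw [GrpObj.comp_inv] at e
    exact inv_eq_one.1 e
  have h'' := congrArg CommaMorphism.left h'
  simp only [Over.comp_left, π, Over.homMk_left, u₀, Category.assoc] at h''
  exact (cancel_epi (T.left.affineCover.X i).isoSpec.inv).1 h''

theorem trivial_iff_exists_flat_free [Module.Finite R A] [Module.Projective R A]
    {K : Type u} [Field K] [Algebra R K] (x : B →ₐ[R] K) :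
    (∀ (T : Over (Spec (CommRingCat.of R))) (h : T ⟶ CoactBr.sp R K) (g : T ⟶ CoactBr.sp R A),
        lift g (h ≫ CoactBr.pt x) ≫ (CoactBr.action R A B).act = h ≫ CoactBr.pt x → g = 1) ↔
      ∃ (Y' : Scheme.{u}) (c : Y' ⟶ Spec (CommRingCat.of (GLin.invariants R A B))),
        Flat c ∧ LocallyOfFinitePresentation c ∧
        (∃ y' : Y', c.base y' =
          (Spec.map (CommRingCat.ofHom (x.toRingHom.comp (GLin.invariants R A B).val.toRingHom))).base
            (IsLocalRing.closedPoint K)) ∧
        ∀ (T : Over (Spec (CommRingCat.of R))) (ζ : T ⟶ CoactBr.sp R B),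
          (∃ t : T.left ⟶ Y', t ≫ c = ζ.left ≫ Spec.map (CommRingCat.ofHom (GLin.invariants R A B).val.toRingHom)) →
          ∀ g : T ⟶ CoactBr.sp R A, lift g ζ ≫ (CoactBr.action R A B).act = ζ → g = 1 := by
  classical
  let C := GLin.invariants R A B
  let v : C →+* B := C.val.toRingHom
  constructor
  · intro hx
    haveI := isIntegral_invariants_projective (R := R) (A := A) (B := B)
    let q : Ideal C := RingHom.ker (x.toRingHom.comp v)
    haveI : q.IsPrime := RingHom.ker_isPrime _
    let a : Ideal B :=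
      { carrier := {r | ∀ z, aug R A B z = 0 → r • z ∈ stabId R A B}
        zero_mem' := fun z _ => by rw [zero_smul]; exact zero_mem _
        add_mem' := fun {r r'} hr hr' z hz => by rw [add_smul]; exact add_mem (hr z hz) (hr' z hz)
        smul_mem' := fun r r' hr' z hz => by
          rw [smul_eq_mul, mul_smul, Algebra.smul_def r (r' • z)]
          exact Ideal.mul_mem_left _ _ (hr' z hz) }
    obtain ⟨c, hca, hcq⟩ : ∃ c : C, v c ∈ a ∧ c ∉ q := by
      by_contra h
      push Not at h
      obtain ⟨P, haP, hP, hPq⟩ := Ideal.exists_ideal_over_prime_of_isIntegral q a h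
      haveI := hP
      have hker : RingHom.ker (x.comp C.val).toRingHom =
          RingHom.ker ((IsScalarTower.toAlgHom R B P.ResidueField).comp C.val).toRingHom := by
        refine hPq.symm.trans ?_
        ext d
        show v d ∈ P ↔ algebraMap B P.ResidueField (v d) = 0
        rw [Ideal.algebraMap_residueField_eq_zero]
      obtain ⟨r, hr, hr'⟩ := exists_smul_ker_aug_le (R := R) (A := A) P
        (fun T h g hg => trivial_of_same_image x _ hker hx T h g hg)
      exact hr (haP hr')
    refine ⟨Spec (CommRingCat.of (Localization.Away c)),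
      Spec.map (CommRingCat.ofHom (algebraMap C (Localization.Away c))), ?_, ?_, ?_, ?_⟩
    · infer_instance
    · infer_instance
    · have hmem : (⟨q, inferInstance⟩ : PrimeSpectrum C) ∈
          Set.range (PrimeSpectrum.comap (algebraMap C (Localization.Away c))) := by
        rw [PrimeSpectrum.localization_away_comap_range (Localization.Away c) c]
        exact hcq
      obtain ⟨y', hy'⟩ := hmem
      refine ⟨y', hy'.trans (PrimeSpectrum.ext ?_)⟩
      show q = Ideal.comap (x.toRingHom.comp v) (IsLocalRing.maximalIdeal K)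
      rw [IsLocalRing.maximalIdeal_eq_bot]
      rfl
    · rintro T ζ ⟨t, ht⟩ g hg
      refine free_of_smul_ker_aug_le (v c) hca T ζ (fun s P hP hcP => ?_) g hg
      have e := congrArg (fun φ => φ.base s) ht
      have hmem : PrimeSpectrum.comap (algebraMap C (Localization.Away c)) (t.base s) ∈
          Set.range (PrimeSpectrum.comap (algebraMap C (Localization.Away c))) := ⟨_, rfl⟩
      rw [PrimeSpectrum.localization_away_comap_range (Localization.Away c) c] at hmem
      apply hmem
      have e' : PrimeSpectrum.comap (algebraMap C (Localization.Away c)) (t.base s) =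
          PrimeSpectrum.comap v (ζ.left.base s) := e
      rw [e', ← hP]
      exact hcP
  · rintro ⟨Y', c, hflat, -, ⟨y', hy'⟩, hfree⟩ T h g hg
    haveI := hflat
    let z : T.left ⟶ Spec (CommRingCat.of C) := (h ≫ CoactBr.pt x).left ≫ Spec.map (CommRingCat.ofHom v)
    haveI : Surjective (pullback.fst z c) := ⟨fun s => by
      obtain ⟨w, hw, -⟩ := Scheme.Pullback.exists_preimage_pullback (f := z) (g := c) s y' (by
        rw [hy', Subsingleton.elim (IsLocalRing.closedPoint K) (h.left.base s : PrimeSpectrum K)]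
        rfl)
      exact ⟨w, hw⟩⟩
    haveI : Flat (pullback.fst z c) := MorphismProperty.pullback_fst _ _ inferInstance
    let T' : Over (Spec (CommRingCat.of R)) := Over.mk (pullback.fst z c ≫ T.hom)
    let π : T' ⟶ T := Over.homMk (pullback.fst z c)
    haveI : Epi π.left := Flat.epi_of_flat_of_surjective (pullback.fst z c)
    haveI : Epi π := Over.epi_of_epi_left π
    rw [← cancel_epi π, MonObj.comp_one]
    refine hfree T' (π ≫ h ≫ CoactBr.pt x) ⟨pullback.snd z c, ?_⟩ (π ≫ g) ?_
    · exact pullback.condition.symm.trans (Category.assoc _ _ _).symm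
    · rw [← comp_lift_assoc, hg]

end Groth.Agent.CoactOrbit
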